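import Cfsg.Agent.Lyons.Arith.Orbit.Enum

/-!
`U₃(4)` residual, orbit certificate: the search itself, by the kernel, in pieces.
-/

set_option autoImplicit false

namespace Cfsg.Lib.Lyons.Orbit

/-- The decompositions, as positions in `types` with multiplicities. -/
def decomps : List (List (ℕ × ℕ)) :=
  [[(24, 1), (20, 3), (8, 1), (7, 2), (4, 1)],
    [(26, 2), (21, 1), (18, 1), (15, 1), (8, 1), (7, 2), (4, 1)],
    [(21, 1), (18, 1), (15, 1), (8, 2), (5, 1), (4, 1)],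
    [(26, 2), (24, 2), (20, 2), (8, 2), (7, 1), (3, 1)],
    [(26, 6), (21, 2), (15, 1), (8, 2), (7, 1), (3, 1)],
    [(26, 2), (25, 1), (21, 2), (15, 1), (8, 2), (7, 1), (3, 1)]] ++
  [[(26, 2), (23, 1), (18, 1), (15, 1), (8, 2), (7, 1), (3, 1)],
    [(26, 2), (21, 2), (12, 1), (8, 2), (7, 1), (3, 1)],
    [(26, 6), (16, 1), (11, 1), (8, 2), (7, 1), (3, 1)],
    [(26, 2), (25, 1), (16, 1), (11, 1), (8, 2), (7, 1), (3, 1)],
    [(26, 2), (14, 1), (11, 1), (8, 2), (7, 1), (3, 1)],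
    [(26, 2), (13, 1), (11, 1), (8, 2), (7, 1), (3, 1)]] ++
  [[(26, 6), (10, 1), (8, 2), (7, 1), (3, 1)],
    [(26, 2), (25, 1), (10, 1), (8, 2), (7, 1), (3, 1)],
    [(26, 6), (9, 1), (8, 2), (7, 1), (3, 1)],
    [(26, 2), (25, 1), (9, 1), (8, 2), (7, 1), (3, 1)],
    [(24, 2), (20, 2), (7, 2), (6, 1), (3, 1)],
    [(26, 4), (21, 2), (15, 1), (7, 2), (6, 1), (3, 1)]] ++
  [[(25, 1), (21, 2), (15, 1), (7, 2), (6, 1), (3, 1)],
    [(23, 1), (18, 1), (15, 1), (7, 2), (6, 1), (3, 1)],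
    [(21, 2), (12, 1), (7, 2), (6, 1), (3, 1)],
    [(26, 4), (16, 1), (11, 1), (7, 2), (6, 1), (3, 1)],
    [(25, 1), (16, 1), (11, 1), (7, 2), (6, 1), (3, 1)],
    [(14, 1), (11, 1), (7, 2), (6, 1), (3, 1)]] ++
  [[(13, 1), (11, 1), (7, 2), (6, 1), (3, 1)],
    [(26, 4), (10, 1), (7, 2), (6, 1), (3, 1)],
    [(25, 1), (10, 1), (7, 2), (6, 1), (3, 1)],
    [(26, 4), (9, 1), (7, 2), (6, 1), (3, 1)],
    [(25, 1), (9, 1), (7, 2), (6, 1), (3, 1)],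
    [(26, 2), (21, 2), (15, 1), (8, 1), (6, 1), (5, 1), (3, 1)]] ++
  [[(26, 2), (16, 1), (11, 1), (8, 1), (6, 1), (5, 1), (3, 1)],
    [(26, 2), (10, 1), (8, 1), (6, 1), (5, 1), (3, 1)],
    [(26, 2), (9, 1), (8, 1), (6, 1), (5, 1), (3, 1)],
    [(26, 2), (24, 3), (20, 1), (8, 3), (2, 1)],
    [(26, 4), (23, 1), (21, 1), (15, 1), (8, 3), (2, 1)],
    [(25, 1), (23, 1), (21, 1), (15, 1), (8, 3), (2, 1)]] ++
  [[(23, 1), (21, 1), (12, 1), (8, 3), (2, 1)],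
    [(24, 3), (20, 1), (8, 1), (7, 1), (6, 1), (2, 1)],
    [(26, 2), (23, 1), (21, 1), (15, 1), (8, 1), (7, 1), (6, 1), (2, 1)],
    [(26, 6), (21, 1), (19, 1), (15, 1), (8, 1), (7, 1), (1, 1)],
    [(26, 2), (25, 1), (21, 1), (19, 1), (15, 1), (8, 1), (7, 1), (1, 1)],
    [(26, 3), (22, 1), (18, 1), (15, 1), (8, 1), (7, 1), (1, 1)]] ++
  [[(26, 3), (23, 1), (17, 1), (15, 1), (8, 1), (7, 1), (1, 1)],
    [(26, 2), (21, 1), (19, 1), (12, 1), (8, 1), (7, 1), (1, 1)],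
    [(26, 4), (24, 1), (20, 1), (11, 1), (8, 1), (7, 1), (1, 1)],
    [(25, 1), (24, 1), (20, 1), (11, 1), (8, 1), (7, 1), (1, 1)],
    [(26, 2), (21, 1), (19, 1), (15, 1), (6, 1), (5, 1), (1, 1)],
    [(24, 1), (20, 1), (11, 1), (6, 1), (5, 1), (1, 1)]] ++
  [[(26, 3), (22, 1), (21, 1), (15, 1), (8, 1), (6, 1), (0, 1)],
    [(26, 2), (23, 1), (19, 1), (15, 1), (8, 1), (6, 1), (0, 1)],
    [(26, 2), (24, 2), (11, 1), (8, 1), (6, 1), (0, 1)]]

/-- Positions read as types. -/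
def read (a : List (ℕ × ℕ)) : List (Ty × ℕ) :=
  a.map fun q => (types.getD q.1 ⟨⟨0, 0, 0, 0, 0, 0⟩, 0, ⟨0, 0, 0, 0, 0, 0, 0, 0⟩⟩, q.2)

theorem enum_eq : enum types ⟨4, 1, -3, 5, 1, 1, -4, 15⟩ [] = decomps.map read := by decide +kernel

theorem signs_0 : (([[(24, 1), (20, 3), (8, 1), (7, 2), (4, 1)],
    [(26, 2), (21, 1), (18, 1), (15, 1), (8, 1), (7, 2), (4, 1)],
    [(21, 1), (18, 1), (15, 1), (8, 2), (5, 1), (4, 1)],
    [(26, 2), (24, 2), (20, 2), (8, 2), (7, 1), (3, 1)],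
    [(26, 6), (21, 2), (15, 1), (8, 2), (7, 1), (3, 1)],
    [(26, 2), (25, 1), (21, 2), (15, 1), (8, 2), (7, 1), (3, 1)]] : List (List (ℕ × ℕ))).all fun a => signs (read a) []) = true := by
  decide +kernel

theorem signs_1 : (([[(26, 2), (23, 1), (18, 1), (15, 1), (8, 2), (7, 1), (3, 1)],
    [(26, 2), (21, 2), (12, 1), (8, 2), (7, 1), (3, 1)],
    [(26, 6), (16, 1), (11, 1), (8, 2), (7, 1), (3, 1)],
    [(26, 2), (25, 1), (16, 1), (11, 1), (8, 2), (7, 1), (3, 1)],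
    [(26, 2), (14, 1), (11, 1), (8, 2), (7, 1), (3, 1)],
    [(26, 2), (13, 1), (11, 1), (8, 2), (7, 1), (3, 1)]] : List (List (ℕ × ℕ))).all fun a => signs (read a) []) = true := by
  decide +kernel

theorem signs_2 : (([[(26, 6), (10, 1), (8, 2), (7, 1), (3, 1)],
    [(26, 2), (25, 1), (10, 1), (8, 2), (7, 1), (3, 1)],
    [(26, 6), (9, 1), (8, 2), (7, 1), (3, 1)],
    [(26, 2), (25, 1), (9, 1), (8, 2), (7, 1), (3, 1)],
    [(24, 2), (20, 2), (7, 2), (6, 1), (3, 1)],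
    [(26, 4), (21, 2), (15, 1), (7, 2), (6, 1), (3, 1)]] : List (List (ℕ × ℕ))).all fun a => signs (read a) []) = true := by
  decide +kernel

theorem signs_3 : (([[(25, 1), (21, 2), (15, 1), (7, 2), (6, 1), (3, 1)],
    [(23, 1), (18, 1), (15, 1), (7, 2), (6, 1), (3, 1)],
    [(21, 2), (12, 1), (7, 2), (6, 1), (3, 1)],
    [(26, 4), (16, 1), (11, 1), (7, 2), (6, 1), (3, 1)],
    [(25, 1), (16, 1), (11, 1), (7, 2), (6, 1), (3, 1)],
    [(14, 1), (11, 1), (7, 2), (6, 1), (3, 1)]] : List (List (ℕ × ℕ))).all fun a => signs (read a) []) = true := by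
  decide +kernel

theorem signs_4 : (([[(13, 1), (11, 1), (7, 2), (6, 1), (3, 1)],
    [(26, 4), (10, 1), (7, 2), (6, 1), (3, 1)],
    [(25, 1), (10, 1), (7, 2), (6, 1), (3, 1)],
    [(26, 4), (9, 1), (7, 2), (6, 1), (3, 1)],
    [(25, 1), (9, 1), (7, 2), (6, 1), (3, 1)],
    [(26, 2), (21, 2), (15, 1), (8, 1), (6, 1), (5, 1), (3, 1)]] : List (List (ℕ × ℕ))).all fun a => signs (read a) []) = true := by
  decide +kernel

theorem signs_5 : (([[(26, 2), (16, 1), (11, 1), (8, 1), (6, 1), (5, 1), (3, 1)],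
    [(26, 2), (10, 1), (8, 1), (6, 1), (5, 1), (3, 1)],
    [(26, 2), (9, 1), (8, 1), (6, 1), (5, 1), (3, 1)],
    [(26, 2), (24, 3), (20, 1), (8, 3), (2, 1)],
    [(26, 4), (23, 1), (21, 1), (15, 1), (8, 3), (2, 1)],
    [(25, 1), (23, 1), (21, 1), (15, 1), (8, 3), (2, 1)]] : List (List (ℕ × ℕ))).all fun a => signs (read a) []) = true := by
  decide +kernel

theorem signs_6 : (([[(23, 1), (21, 1), (12, 1), (8, 3), (2, 1)],
    [(24, 3), (20, 1), (8, 1), (7, 1), (6, 1), (2, 1)],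
    [(26, 2), (23, 1), (21, 1), (15, 1), (8, 1), (7, 1), (6, 1), (2, 1)],
    [(26, 6), (21, 1), (19, 1), (15, 1), (8, 1), (7, 1), (1, 1)],
    [(26, 2), (25, 1), (21, 1), (19, 1), (15, 1), (8, 1), (7, 1), (1, 1)],
    [(26, 3), (22, 1), (18, 1), (15, 1), (8, 1), (7, 1), (1, 1)]] : List (List (ℕ × ℕ))).all fun a => signs (read a) []) = true := by
  decide +kernel

theorem signs_7 : (([[(26, 3), (23, 1), (17, 1), (15, 1), (8, 1), (7, 1), (1, 1)],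
    [(26, 2), (21, 1), (19, 1), (12, 1), (8, 1), (7, 1), (1, 1)],
    [(26, 4), (24, 1), (20, 1), (11, 1), (8, 1), (7, 1), (1, 1)],
    [(25, 1), (24, 1), (20, 1), (11, 1), (8, 1), (7, 1), (1, 1)],
    [(26, 2), (21, 1), (19, 1), (15, 1), (6, 1), (5, 1), (1, 1)],
    [(24, 1), (20, 1), (11, 1), (6, 1), (5, 1), (1, 1)]] : List (List (ℕ × ℕ))).all fun a => signs (read a) []) = true := by
  decide +kernel

theorem signs_8 : (([[(26, 3), (22, 1), (21, 1), (15, 1), (8, 1), (6, 1), (0, 1)],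
    [(26, 2), (23, 1), (19, 1), (15, 1), (8, 1), (6, 1), (0, 1)],
    [(26, 2), (24, 2), (11, 1), (8, 1), (6, 1), (0, 1)]] : List (List (ℕ × ℕ))).all fun a => signs (read a) []) = true := by
  decide +kernel

theorem go_types : go types ⟨4, 1, -3, 5, 1, 1, -4, 15⟩ [] = true := by
  refine go_of_enum _ _ _ fun a ha => ?_
  rw [enum_eq, List.mem_map] at ha
  obtain ⟨b, hb, rfl⟩ := ha
  simp only [decomps, List.mem_append] at hb
  rcases hb with (((((((hb | hb) | hb) | hb) | hb) | hb) | hb) | hb) | hb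
  exacts [List.all_eq_true.1 signs_0 b hb, List.all_eq_true.1 signs_1 b hb, List.all_eq_true.1 signs_2 b hb, List.all_eq_true.1 signs_3 b hb, List.all_eq_true.1 signs_4 b hb, List.all_eq_true.1 signs_5 b hb, List.all_eq_true.1 signs_6 b hb, List.all_eq_true.1 signs_7 b hb, List.all_eq_true.1 signs_8 b hb]

end Cfsg.Lib.Lyons.Orbit
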