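import Cfsg.Agent.Lyons.Arith.Orbit.Cover
import Cfsg.Agent.Lyons.Arith.Orbit.Search
import Cfsg.Agent.Lyons.OrbitSpec

/-!
`U₃(4)` residual, orbit certificate: from the data to the search.
-/

set_option autoImplicit false

namespace Cfsg.Lib.Lyons.Orbit

open Finset

universe u

variable {ι : Type u} [Fintype ι] (D : RowsOrbit ι)

theorem sum_five (f : ZMod 5 → ℤ) : ∑ c, f c = f 0 + f 1 + f 2 + f 3 + f 4 := Fin.sum_univ_five f

/-- The value at the central involution. -/
def dz (i : ι) : ℤ := ∑ c, D.d i c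

/-- The integral coordinates. -/
def crd (i : ι) (b : ZMod 5) : ℤ := D.d i b + (D.p i - dz D i) / 4

theorem four_crd (i : ι) (b : ZMod 5) : 4 * crd D i b = 4 * D.d i b + D.p i - dz D i := by
  obtain ⟨-, M, R, -, hp, -, -⟩ := D.shape i
  simp only [crd, dz] at *
  omega

/-- The row. -/
def vec (i : ι) : Vec := ⟨crd D i 0, crd D i 1, crd D i 2, crd D i 3, crd D i 4, -D.p i⟩

theorem vec_p (i : ι) : (vec D i).p = D.p i := by simp [vec, Vec.p]

theorem vec_dz (i : ι) : (vec D i).dz = dz D i := by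
  have h0 := four_crd D i 0
  have h1 := four_crd D i 1
  have h2 := four_crd D i 2
  have h3 := four_crd D i 3
  have h4 := four_crd D i 4
  have h : dz D i = D.d i 0 + D.d i 1 + D.d i 2 + D.d i 3 + D.d i 4 := sum_five _
  simp only [Vec.dz, Vec.tot, Vec.p, vec]
  omega

theorem vec_q (i : ι) : (vec D i).q = D.d i 0 := by
  have h0 := four_crd D i 0
  have hd := vec_dz D i
  simp only [Vec.q, Vec.dz, Vec.tot, Vec.p, vec] at *
  omega

theorem turn_values (i : ι) : D.d (D.turn i) 0 = D.d i 0 ∧ D.d (D.turn i) 1 = D.d i 3 ∧ D.d (D.turn i) 2 = D.d i 1 ∧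
    D.d (D.turn i) 3 = D.d i 4 ∧ D.d (D.turn i) 4 = D.d i 2 :=
  ⟨by simpa using (D.turn_spec i).2.2.2 0, (D.turn_spec i).2.2.2 3, (D.turn_spec i).2.2.2 1,
    (D.turn_spec i).2.2.2 4, (D.turn_spec i).2.2.2 2⟩

theorem dz_σ (i : ι) : dz D (D.turn i) = dz D i := by
  obtain ⟨e0, e1, e2, e3, e4⟩ := turn_values D i
  simp only [dz, sum_five]
  omega

theorem vec_σ (i : ι) : vec D (D.turn i) = (vec D i).rot := by
  obtain ⟨e0, e1, e2, e3, e4⟩ := turn_values D i
  simp only [vec, Vec.rot, crd, dz_σ, (D.turn_spec i).2.1, e0, e1, e2, e3, e4]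

theorem vec_iterate (k : ℕ) (i : ι) : vec D (D.turn^[k] i) = Vec.rot^[k] (vec D i) := by
  induction k with
  | zero => rfl
  | succ k ih => rw [Function.iterate_succ_apply', Function.iterate_succ_apply', vec_σ, ih]

theorem x_iterate (k : ℕ) (i : ι) : D.x (D.turn^[k] i) = D.x i := by
  induction k with
  | zero => rfl
  | succ k ih => rw [Function.iterate_succ_apply', (D.turn_spec _).1, ih]

/-- The Gram matrix in the integral coordinates. -/
theorem crd_crd (b c : ZMod 5) : ∑ i, crd D i b * crd D i c =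
    if b = c then (if b = 0 then 4 else 5) else 1 := by
  have h : 16 * ∑ i, crd D i b * crd D i c = 16 * (if b = c then (if b = 0 then 4 else 5) else 1) := by
    have : ∀ i, 16 * (crd D i b * crd D i c) = (4 * D.d i b + D.p i - dz D i) * (4 * D.d i c + D.p i - dz D i) :=
      fun i => by rw [← four_crd, ← four_crd]; ring
    rw [Finset.mul_sum]
    simp only [this, dz, sum_five, mul_add, add_mul, mul_sub, sub_mul, Finset.sum_add_distrib,
      Finset.sum_sub_distrib, mul_assoc, mul_left_comm (D.d _ _) (4 : ℤ), mul_left_comm (D.p _) (4 : ℤ),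
      mul_comm (D.d _ _) (D.p _), ← Finset.mul_sum, D.orth_pp, D.orth_pd, D.orth_dd]
    clear this
    revert b c
    decide
  omega

theorem crd_w (b : ZMod 5) : ∑ i, crd D i b * -D.p i = if b = 0 then -3 else -4 := by
  have h : 4 * ∑ i, crd D i b * -D.p i = 4 * (if b = 0 then -3 else -4) := by
    have : ∀ i, 4 * (crd D i b * -D.p i) = -((4 * D.d i b + D.p i - dz D i) * D.p i) :=
      fun i => by rw [← four_crd]; ring
    rw [Finset.mul_sum]
    simp only [this, dz, sum_five, add_mul, sub_mul, Finset.sum_neg_distrib, Finset.sum_add_distrib,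
      Finset.sum_sub_distrib, mul_assoc, mul_comm (D.d _ _) (D.p _), ← Finset.mul_sum, D.orth_pp, D.orth_pd]
    clear this
    revert b
    decide
  omega

theorem w_w : ∑ i, -D.p i * -D.p i = 15 := by simpa using D.orth_pp

theorem sum_dot_sq (a : Vec) : ∑ i, (vec D i).dot a * (vec D i).dot a = a.gq := by
  have : ∀ i, (vec D i).dot a * (vec D i).dot a =
      a.c0 * a.c0 * (crd D i 0 * crd D i 0) + a.c1 * a.c1 * (crd D i 1 * crd D i 1) +
      a.c2 * a.c2 * (crd D i 2 * crd D i 2) + a.c3 * a.c3 * (crd D i 3 * crd D i 3) +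
      a.c4 * a.c4 * (crd D i 4 * crd D i 4) + a.w * a.w * (-D.p i * -D.p i) +
      2 * a.c0 * a.c1 * (crd D i 0 * crd D i 1) + 2 * a.c0 * a.c2 * (crd D i 0 * crd D i 2) +
      2 * a.c0 * a.c3 * (crd D i 0 * crd D i 3) + 2 * a.c0 * a.c4 * (crd D i 0 * crd D i 4) +
      2 * a.c1 * a.c2 * (crd D i 1 * crd D i 2) + 2 * a.c1 * a.c3 * (crd D i 1 * crd D i 3) +
      2 * a.c1 * a.c4 * (crd D i 1 * crd D i 4) + 2 * a.c2 * a.c3 * (crd D i 2 * crd D i 3) +
      2 * a.c2 * a.c4 * (crd D i 2 * crd D i 4) + 2 * a.c3 * a.c4 * (crd D i 3 * crd D i 4) +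
      2 * a.c0 * a.w * (crd D i 0 * -D.p i) + 2 * a.c1 * a.w * (crd D i 1 * -D.p i) +
      2 * a.c2 * a.w * (crd D i 2 * -D.p i) + 2 * a.c3 * a.w * (crd D i 3 * -D.p i) +
      2 * a.c4 * a.w * (crd D i 4 * -D.p i) := fun i => by simp only [vec, Vec.dot]; ring
  simp only [this, Finset.sum_add_distrib, ← Finset.mul_sum, crd_crd, crd_w, w_w, Vec.gq]
  simp (decide := true) only [if_true, if_false]
  ring

theorem orbit_mem (i : ι) : ∀ v ∈ (vec D i).orbit, ∃ j, vec D j = v := by
  intro v hv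
  have e1 := vec_iterate D 1 i
  have e2 := vec_iterate D 2 i
  have e3 := vec_iterate D 3 i
  simp only [Function.iterate_succ_apply', Function.iterate_zero_apply] at e1 e2 e3
  rw [Vec.orbit] at hv
  split_ifs at hv <;> simp only [List.mem_cons, List.not_mem_nil, or_false] at hv
  · exact ⟨i, hv.symm⟩
  · rcases hv with rfl | rfl
    exacts [⟨i, rfl⟩, ⟨_, e1⟩]
  · rcases hv with rfl | rfl | rfl | rfl
    exacts [⟨i, rfl⟩, ⟨_, e1⟩, ⟨_, e2⟩, ⟨_, e3⟩]

theorem rot_four (v : Vec) : v.rot.rot.rot.rot = v := rfl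

theorem orbit_nodup (v : Vec) : v.orbit.Nodup := by
  rw [Vec.orbit]
  split_ifs with h1 h2
  · simp
  · simpa using fun h => h1 h.symm
  · have n1 : v ≠ v.rot := fun h => h1 h.symm
    have n2 : v ≠ v.rot.rot := fun h => h2 h.symm
    have n3 : v ≠ v.rot.rot.rot := fun h => h1 (by
      have := congrArg Vec.rot h
      rwa [rot_four] at this)
    have n4 : v.rot ≠ v.rot.rot := fun h => n1 (Vec.rot_injective h)
    have n5 : v.rot ≠ v.rot.rot.rot := fun h => n2 (Vec.rot_injective h)
    have n6 : v.rot.rot ≠ v.rot.rot.rot := fun h => n4 (Vec.rot_injective h)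
    simp [n1, n2, n3, n4, n5, n6]

theorem vec_bound (i : ι) : vec D i ∈ allRows := by
  classical
  have sq : ∀ (a : Vec) {n : ℕ}, a.gq < (n + 1 : ℤ) * (n + 1) →
      -(n : ℤ) ≤ (vec D i).dot a ∧ (vec D i).dot a ≤ n := by
    intro a n h
    have h1 : (vec D i).dot a * (vec D i).dot a ≤ a.gq := (Finset.single_le_sum
      (fun j _ => mul_self_nonneg ((vec D j).dot a)) (Finset.mem_univ i)).trans_eq (sum_dot_sq D a)
    constructor <;> nlinarith
  have b0 := sq ⟨1, 0, 0, 0, 0, 0⟩ (n := 2) (by decide)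
  have b1 := sq ⟨0, 1, 0, 0, 0, 0⟩ (n := 2) (by decide)
  have b2 := sq ⟨0, 0, 1, 0, 0, 0⟩ (n := 2) (by decide)
  have b3 := sq ⟨0, 0, 0, 1, 0, 0⟩ (n := 2) (by decide)
  have b4 := sq ⟨0, 0, 0, 0, 1, 0⟩ (n := 2) (by decide)
  have bw := sq ⟨0, 0, 0, 0, 0, 1⟩ (n := 3) (by decide)
  simp only [Vec.dot, zero_mul, one_mul, add_zero, zero_add] at b0 b1 b2 b3 b4 bw
  refine (cover b0 b1 b2 b3 b4 bw).resolve_right ?_
  rintro ⟨a, ha⟩
  rw [← List.sum_toFinset _ (orbit_nodup _), ← sum_dot_sq D a] at ha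
  refine absurd ha (not_lt.2 ?_)
  have key : ∀ u ∈ (vec D i).orbit.toFinset, u.dot a * u.dot a ≤
      ∑ j ∈ (Finset.univ.filter fun j => vec D j ∈ (vec D i).orbit.toFinset) with vec D j = u,
        (vec D j).dot a * (vec D j).dot a := by
    intro u hu
    obtain ⟨j, rfl⟩ := orbit_mem D i u (List.mem_toFinset.1 hu)
    exact Finset.single_le_sum (f := fun k => (vec D k).dot a * (vec D k).dot a)
      (fun k _ => mul_self_nonneg _) (by simp [List.mem_toFinset.1 hu])
  refine (Finset.sum_le_sum key).trans ?_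
  rw [Finset.sum_fiberwise_of_maps_to (fun j hj => (Finset.mem_filter.1 hj).2)]
  exact Finset.sum_le_univ_sum_of_nonneg fun j => mul_self_nonneg _

theorem iterate_J (k : ℕ) (i : ι) : D.J (D.turn^[k] i) = D.J i := by
  induction k with
  | zero => rfl
  | succ k ih => rw [Function.iterate_succ_apply', (D.turn_spec _).2.2.1, ih]

/-- The rows with a given vector, moved along the orbit. -/
theorem fiber_iterate {α : Type*} [AddCommMonoid α] (g : ι → α) (v : Vec) (k : ℕ) :
    ∑ i with vec D i = Vec.rot^[k] v, g i = ∑ i with vec D i = v, g (D.turn^[k] i) := by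
  refine (Finset.sum_bij (fun i _ => D.turn^[k] i) (fun i hi => ?_) (fun a _ b _ h => ?_) (fun i hi => ?_)
    (fun i _ => rfl)).symm
  · simp only [Finset.mem_filter, Finset.mem_univ, true_and] at hi ⊢
    rw [vec_iterate, hi]
  · exact D.turn.injective.iterate k h
  · obtain ⟨j, rfl⟩ := D.turn.surjective.iterate k i
    refine ⟨j, ?_, rfl⟩
    simp only [Finset.mem_filter, Finset.mem_univ, true_and, vec_iterate] at hi ⊢
    exact Vec.rot_injective.iterate k hi

/-- The representatives of a type. -/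
noncomputable def negFiber (t : Ty) : List ι :=
  if t.selfOpp then [] else (Finset.univ.filter fun i => vec D i = t.rep.neg).toList

theorem mem_collect_of_mem : ∀ (ps : List Part) (rs : List Row) (P : Part), P ∈ ps →
    ∀ {r : Row}, (r ∈ P.pos ∨ r ∈ P.neg) → r ∈ collect ps rs
  | [], _, P, h, _, _ => by simp at h
  | Q :: ps, rs, P, h, r, hr => by
    rcases List.mem_cons.1 h with rfl | h
    · have : ∀ (qs : List Part) (xs : List Row), r ∈ xs → r ∈ collect qs xs := by
        intro qs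
        induction qs with
        | nil => exact fun _ hx => hx
        | cons q qs ih => exact fun xs hx => ih _ (List.mem_append_right _ hx)
      exact this ps _ (List.mem_append_left _ (List.mem_append.2 hr))
    · exact mem_collect_of_mem ps _ P h hr

/-- Split a sum over the rows by the types. -/
theorem sum_types {α : Type*} [AddCommMonoid α] (g : ι → α) (h0 : ∀ i, vec D i = ⟨0, 0, 0, 0, 0, 0⟩ → g i = 0) :
    ∑ i, g i = (types.map fun t =>
      (((Finset.univ.filter fun i => vec D i = t.rep).toList.map fun i =>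
        ∑ k ∈ Finset.range t.n, g (D.turn^[k] i)).sum +
      ((negFiber D t).map fun i => ∑ k ∈ Finset.range t.n, g (D.turn^[k] i)).sum)).sum := by
  classical
  have hrows : ∀ (t : Ty) (v : Vec), ((t.rows v).map fun u => ∑ i with vec D i = u, g i).sum =
      ((Finset.univ.filter fun i => vec D i = v).toList.map fun i =>
        ∑ k ∈ Finset.range t.n, g (D.turn^[k] i)).sum := by
    intro t v
    rw [Ty.rows, List.map_map, Finset.sum_map_toList]
    rw [Finset.sum_comm]
    rw [← List.sum_toFinset _ List.nodup_range, List.toFinset_range]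
    exact Finset.sum_congr rfl fun k _ => fiber_iterate D g v k
  rw [← Finset.sum_fiberwise_of_maps_to (t := allRows.toFinset) (fun i _ => List.mem_toFinset.2 (vec_bound D i)),
    List.sum_toFinset _ allRows_nodup, allRows, List.map_cons, List.sum_cons,
    Finset.sum_eq_zero (fun i hi => h0 i (Finset.mem_filter.1 hi).2), zero_add]
  rw [List.flatMap_def, List.map_flatten, List.sum_flatten, List.map_map, List.map_map]
  refine congrArg List.sum (List.map_congr_left fun t _ => ?_)
  simp only [Function.comp_apply, List.map_append, List.sum_append, hrows, negFiber]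
  split_ifs
  · simp
  · simp [hrows]

theorem rmin_le (i : ι) : ∃ R : ℕ, (D.x i : ℤ) = 4 * D.p i - 3 * dz D i + 64 * (R + D.J i) ∧
    (vec D i).rmin ≤ R := by
  obtain ⟨-, M, R, hx, hp, hr, hM⟩ := D.shape i
  rw [← dz] at hx hp
  refine ⟨R, by omega, ?_⟩
  have hd : dz D i = D.d i 0 + D.d i 1 + D.d i 2 + D.d i 3 + D.d i 4 := sum_five _
  rw [sum_five] at hM
  have := hr 0; have := hr 1; have := hr 2; have := hr 3; have := hr 4
  have := four_crd D i 0; have := four_crd D i 1; have := four_crd D i 2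
  have := four_crd D i 3; have := four_crd D i 4
  rw [Vec.rmin, vec_dz, vec_p]
  simp only [vec, max_le_iff]
  omega

/-- The row of an orbit with representative `i`. -/
noncomputable def row (n : ℕ) (i : ι) : Row :=
  ⟨(vec D i).item n, (((D.x i : ℤ) - ((vec D i).item n).L) / 64).toNat, n * D.J i⟩

theorem row_deg (n : ℕ) (i : ι) : (row D n i).it.deg (row D n i).K = (D.x i : ℤ) := by
  obtain ⟨R, hx, hR⟩ := rmin_le D i
  have hJ := (D.shape i).1
  simp only [row, Item.deg, Vec.item, vec_p, vec_dz]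
  omega

/-- The orbits of one type. -/
noncomputable def part (t : Ty) : Part where
  ty := t
  pos := (Finset.univ.filter fun i => vec D i = t.rep).toList.map (row D t.n)
  neg := (negFiber D t).map (row D t.n)
  pos_it r hr := by
    obtain ⟨i, hi, rfl⟩ := List.mem_map.1 hr
    simp only [Finset.mem_toList, Finset.mem_filter] at hi
    simp only [row, hi.2]
  neg_it r hr := by
    obtain ⟨i, hi, rfl⟩ := List.mem_map.1 hr
    rw [negFiber] at hi
    split_ifs at hi
    · simp at hi
    · simp only [Finset.mem_toList, Finset.mem_filter] at hi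
      simp only [row, hi.2]

/-- All orbits. -/
noncomputable def parts : List Part := types.map (part D)

/-- All rows of the search. -/
noncomputable def rows : List Row := collect (parts D) []

theorem rows_sum {α : Type} [AddCommMonoid α] (f : Row → α) :
    ((rows D).map f).sum = ((parts D).map fun P => (P.pos.map f).sum + (P.neg.map f).sum).sum := by
  rw [rows, collect_sum]; simp

/-- A sum over the characters of a function of the invariant data is a sum over the orbits. -/
theorem transfer {α : Type} [AddCommMonoid α] (g : ι → α) (f : Row → α)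
    (h0 : ∀ i, vec D i = ⟨0, 0, 0, 0, 0, 0⟩ → g i = 0) (hg : ∀ i k, g (D.turn^[k] i) = g i)
    (hf : ∀ n i, f (row D n i) = n • g i) : ((rows D).map f).sum = ∑ i, g i := by
  rw [rows_sum, sum_types D g h0, parts, List.map_map]
  refine congrArg List.sum (List.map_congr_left fun t _ => ?_)
  simp [part, List.map_map, Function.comp_def, hf, hg]

theorem iterate_p (k : ℕ) (i : ι) : D.p (D.turn^[k] i) = D.p i := by
  induction k with
  | zero => rfl
  | succ k ih => rw [Function.iterate_succ_apply', (D.turn_spec _).2.1, ih]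

theorem iterate_q (k : ℕ) (i : ι) : D.d (D.turn^[k] i) 0 = D.d i 0 := by
  induction k with
  | zero => rfl
  | succ k ih => rw [Function.iterate_succ_apply', (turn_values D _).1, ih]

theorem iterate_dz (k : ℕ) (i : ι) : dz D (D.turn^[k] i) = dz D i := by
  induction k with
  | zero => rfl
  | succ k ih => rw [Function.iterate_succ_apply', dz_σ, ih]

theorem zero_row {i : ι} (h : vec D i = ⟨0, 0, 0, 0, 0, 0⟩) : D.p i = 0 ∧ D.d i 0 = 0 ∧ dz D i = 0 := by
  have h1 := vec_p D i
  have h2 := vec_q D i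
  have h3 := vec_dz D i
  rw [h] at h1 h2 h3
  exact ⟨h1.symm, h2.symm, h3.symm⟩

theorem sum_lin (g : ι → ℤ) (rp rq : ℤ) (hp : ∑ i, g i * D.p i = rp)
    (hd : ∀ b, ∑ i, g i * D.d i b = if b = 0 then rq else 0) (l : ℤ × ℤ × ℤ) :
    ∑ i, g i * (l.1 * D.p i + l.2.1 * D.d i 0 + l.2.2 * (dz D i - D.d i 0)) = l.1 * rp + l.2.1 * rq := by
  have : ∀ i, g i * (l.1 * D.p i + l.2.1 * D.d i 0 + l.2.2 * (dz D i - D.d i 0)) =
      l.1 * (g i * D.p i) + l.2.1 * (g i * D.d i 0) +
      l.2.2 * (g i * D.d i 1 + g i * D.d i 2 + g i * D.d i 3 + g i * D.d i 4) :=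
    fun i => by rw [dz, sum_five]; ring
  simp only [this, Finset.sum_add_distrib, ← Finset.mul_sum, hp, hd]
  simp (decide := true)

theorem count_lin (c : ℤ × ℤ) : ∑ i, (((dz D i) ^ 2 * (c.1 * D.p i + c.2 * (dz D i - 5 * D.d i 0)) : ℤ) : ℚ) /
    (D.x i : ℚ) = ((-c.1 + 4 * c.2 : ℤ) : ℚ) := by
  have e : ∀ i, (((dz D i) ^ 2 * (c.1 * D.p i + c.2 * (dz D i - 5 * D.d i 0)) : ℤ) : ℚ) / (D.x i : ℚ) =
      (c.1 : ℚ) * (((∑ b, D.d i b) ^ 2 * D.p i : ℚ) / (D.x i : ℚ)) +
      (c.2 : ℚ) * ((((∑ b, D.d i b) ^ 2 * (D.d i 1 - D.d i 0) : ℚ) / (D.x i : ℚ)) +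
        (((∑ b, D.d i b) ^ 2 * (D.d i 2 - D.d i 0) : ℚ) / (D.x i : ℚ)) +
        (((∑ b, D.d i b) ^ 2 * (D.d i 3 - D.d i 0) : ℚ) / (D.x i : ℚ)) +
        (((∑ b, D.d i b) ^ 2 * (D.d i 4 - D.d i 0) : ℚ) / (D.x i : ℚ))) := by
    intro i
    simp only [dz, sum_five]
    push_cast
    ring
  simp only [e, Finset.sum_add_distrib, ← Finset.mul_sum, D.count_a,
    D.count_z 1 (by decide), D.count_z 2 (by decide), D.count_z 3 (by decide), D.count_z 4 (by decide)]
  push_cast
  ring

theorem dot_row (n : ℕ) (i : ι) (l : ℤ × ℤ × ℤ) :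
    (row D n i).it.dot l = l.1 * D.p i + l.2.1 * D.d i 0 + l.2.2 * (dz D i - D.d i 0) := by
  simp [row, Item.dot, Vec.item, vec_p, vec_q, vec_dz]

theorem rows_mem {r : Row} (hr : r ∈ rows D) : ∃ t ∈ types, ∃ i, r = row D t.n i ∧
    (vec D i = t.rep ∨ vec D i = t.rep.neg) := by
  rcases mem_collect (parts D) [] hr with h | ⟨P, hP, h⟩
  · simp at h
  obtain ⟨t, ht, rfl⟩ := List.mem_map.1 hP
  refine ⟨t, ht, ?_⟩
  rcases h with h | h <;> obtain ⟨i, hi, rfl⟩ := List.mem_map.1 h
  · exact ⟨i, rfl, Or.inl (Finset.mem_filter.1 (Finset.mem_toList.1 hi)).2⟩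
  · rw [negFiber] at hi
    split_ifs at hi
    · simp at hi
    · exact ⟨i, rfl, Or.inr (Finset.mem_filter.1 (Finset.mem_toList.1 hi)).2⟩

theorem row_pos {r : Row} (hr : r ∈ rows D) : 1 ≤ r.J ∧ 0 < r.it.n ∧ 0 < r.it.L := by
  obtain ⟨t, ht, i, rfl, h⟩ := rows_mem D hr
  have := types_ok t ht (vec D i) (by rcases h with h | h <;> simp [h])
  exact ⟨Nat.mul_pos (by exact this.2.2.2.2) (D.shape i).1, by simpa [row, Vec.item] using this.2.2.2.2, this.2.2.2.1⟩

theorem sol : Sol (rows D) := by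
  refine ⟨fun r hr => (row_pos D hr).1, fun r hr => (row_pos D hr).2.1, fun r hr => (row_pos D hr).2.2, ?_, ?_, ?_⟩
  · intro l
    rw [transfer D (fun i => (D.J i : ℤ) * (l.1 * D.p i + l.2.1 * D.d i 0 + l.2.2 * (dz D i - D.d i 0)))]
    · simpa using sum_lin D (fun i => (D.J i : ℤ)) 0 0 D.moved_p (fun b => by simp [D.moved_d b]) l
    · intro i h; obtain ⟨a, b, c⟩ := zero_row D h; simp [a, b, c]
    · intro i k; simp [iterate_p, iterate_q, iterate_dz, iterate_J]
    · intro n i; simp only [dot_row, nsmul_eq_mul]; simp [row]; ring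
  · intro l
    rw [transfer D (fun i => (D.x i : ℤ) * (l.1 * D.p i + l.2.1 * D.d i 0 + l.2.2 * (dz D i - D.d i 0)))]
    · rw [sum_lin D (fun i => (D.x i : ℤ)) (-1) (-1) D.deg_p D.deg_d l]; ring
    · intro i h; obtain ⟨a, b, c⟩ := zero_row D h; simp [a, b, c]
    · intro i k; simp [iterate_p, iterate_q, iterate_dz, x_iterate]
    · intro n i; rw [row_deg, dot_row, nsmul_eq_mul]; simp [row, Vec.item]; ring
  · intro c
    rw [transfer D (fun i => (((dz D i) ^ 2 * (c.1 * D.p i + c.2 * (dz D i - 5 * D.d i 0)) : ℤ) : ℚ) / (D.x i : ℚ))]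
    · exact count_lin D c
    · intro i h; obtain ⟨a, b, e⟩ := zero_row D h; simp [e]
    · intro i k; simp [iterate_p, iterate_q, iterate_dz, x_iterate]
    · intro n i
      rw [row_deg, nsmul_eq_mul]
      simp only [row, Item.wt, Item.wA, Item.wB, Vec.item, vec_p, vec_q, vec_dz]
      push_cast
      ring

theorem total_apply (π : Mom → ℤ) (h0 : π ⟨0, 0, 0, 0, 0, 0, 0, 0⟩ = 0)
    (hadd : ∀ (P : Part) (ps : List Part), π (total (P :: ps)) = π (total ps) + P.card * π P.ty.m) :
    ∀ ps : List Part, π (total ps) = (ps.map fun P => (P.card : ℤ) * π P.ty.m).sum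
  | [] => by rw [total, h0]; simp
  | P :: ps => by rw [hadd, total_apply π h0 hadd ps, List.map_cons, List.sum_cons]; ring

theorem moment (π : Mom → ℤ) (f : Vec → ℤ) (hf : f ⟨0, 0, 0, 0, 0, 0⟩ = 0)
    (hπ : ∀ t ∈ types, ∀ v ∈ [t.rep, t.rep.neg], π t.m = ((t.rows v).map f).sum) :
    ((parts D).map fun P => (P.card : ℤ) * π P.ty.m).sum = ∑ i, f (vec D i) := by
  rw [sum_types D (fun i => f (vec D i)) (fun i h => by rw [h, hf]), parts, List.map_map]
  refine congrArg List.sum (List.map_congr_left fun t ht => ?_)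
  have key : ∀ (L : List ι) (v : Vec), v ∈ [t.rep, t.rep.neg] → (∀ i ∈ L, vec D i = v) →
      (L.map fun i => ∑ k ∈ Finset.range t.n, f (vec D (D.turn^[k] i))).sum = (L.length : ℤ) * π t.m := by
    intro L v hv hL
    have : L.map (fun i => ∑ k ∈ Finset.range t.n, f (vec D (D.turn^[k] i))) = L.map fun _ => π t.m := by
      refine List.map_congr_left fun i hi => ?_
      rw [hπ t ht v hv, Ty.rows, List.map_map, ← List.toFinset_range, List.sum_toFinset _ List.nodup_range]
      simp [vec_iterate, hL i hi, Function.comp_def]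
    rw [this, List.map_const', List.sum_replicate, nsmul_eq_mul]
  have h1 : ∀ i ∈ (Finset.univ.filter fun i => vec D i = t.rep).toList, vec D i = t.rep := fun i hi => by
    simpa using hi
  have h2 : ∀ i ∈ negFiber D t, vec D i = t.rep.neg := fun i hi => by
    rw [negFiber] at hi
    split_ifs at hi
    · simp at hi
    · simpa using hi
  rw [key _ t.rep (by simp) h1, key _ t.rep.neg (by simp) h2]
  simp only [Function.comp_apply, Part.card, part, List.length_map, Nat.cast_add]
  ring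

theorem total_parts : total (parts D) = ⟨4, 1, -3, 5, 1, 1, -4, 15⟩ := by
  have m := fun (π : Mom → ℤ) (f : Vec → ℤ) (h0 : π ⟨0, 0, 0, 0, 0, 0, 0, 0⟩ = 0)
      (hadd : ∀ (P : Part) (ps : List Part), π (total (P :: ps)) = π (total ps) + P.card * π P.ty.m) hf hπ =>
    (total_apply π h0 hadd (parts D)).trans (moment D π f hf hπ)
  have e0 := m Mom.aa (fun u => u.c0 * u.c0) rfl (fun _ _ => rfl) rfl fun t ht v hv => by rw [(types_ok t ht v hv).1]
  have e1 := m Mom.ab (fun u => u.c0 * u.c1) rfl (fun _ _ => rfl) rfl fun t ht v hv => by rw [(types_ok t ht v hv).1]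
  have e2 := m Mom.aw (fun u => u.c0 * u.w) rfl (fun _ _ => rfl) rfl fun t ht v hv => by rw [(types_ok t ht v hv).1]
  have e3 := m Mom.bb (fun u => u.c1 * u.c1) rfl (fun _ _ => rfl) rfl fun t ht v hv => by rw [(types_ok t ht v hv).1]
  have e4 := m Mom.bc (fun u => u.c1 * u.c2) rfl (fun _ _ => rfl) rfl fun t ht v hv => by rw [(types_ok t ht v hv).1]
  have e5 := m Mom.bd (fun u => u.c1 * u.c4) rfl (fun _ _ => rfl) rfl fun t ht v hv => by rw [(types_ok t ht v hv).1]
  have e6 := m Mom.bw (fun u => u.c1 * u.w) rfl (fun _ _ => rfl) rfl fun t ht v hv => by rw [(types_ok t ht v hv).1]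
  have e7 := m Mom.ww (fun u => u.w * u.w) rfl (fun _ _ => rfl) rfl fun t ht v hv => by rw [(types_ok t ht v hv).1]
  simp only [vec, crd_crd, crd_w, w_w] at e0 e1 e2 e3 e4 e5 e6 e7
  simp (decide := true) only [if_true, if_false] at e0 e1 e2 e3 e4 e5 e6 e7
  cases h : total (parts D)
  simp only [h] at e0 e1 e2 e3 e4 e5 e6 e7
  simp [e0, e1, e2, e3, e4, e5, e6, e7]

/-- Pieces L5 and L6 together. -/
theorem orbitSpec : OrbitSpec.{u} := by
  intro ι _ D
  classical
  refine go_sound (parts D) [] (fun P hP => ?_) ?_ (rows D) (fun f => ?_) (fun r hr => row_pos D hr) (fun r hr => ?_)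
    (sol D)
  · obtain ⟨t, ht, rfl⟩ := List.mem_map.1 hP
    have := types_ok t ht t.rep (by simp)
    exact ⟨this.2.1, this.2.2.1⟩
  · rw [total_parts, parts, List.map_map]
    simpa [Function.comp_def, part] using go_types
  · rw [List.append_nil]; exact rows_sum D f
  · obtain ⟨P, hP, hr⟩ := hr
    rw [List.append_nil] at hP
    exact mem_collect_of_mem _ _ P hP hr

end Cfsg.Lib.Lyons.Orbit
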