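import Cfsg.Agent.Lyons.Arith.Orbit.Enum

/-!
`U₃(4)` residual, orbit certificate: every possible row lies in one of the orbit types.
-/

set_option autoImplicit false

namespace Cfsg.Lib.Lyons.Orbit

namespace Vec

variable (v : Vec)

/-- The Galois action `b ↦ 2 b` on rows. -/
def rot : Vec := ⟨v.c0, v.c3, v.c1, v.c4, v.c2, v.w⟩

theorem rot_injective : Function.Injective rot := by
  intro a b h
  cases a; cases b
  simp only [rot, Vec.mk.injEq] at h ⊢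
  tauto

/-- A linear form. -/
def dot (a : Vec) : ℤ :=
  a.c0 * v.c0 + a.c1 * v.c1 + a.c2 * v.c2 + a.c3 * v.c3 + a.c4 * v.c4 + a.w * v.w

/-- The Gram form of the non-principal rows. -/
def gq : ℤ :=
  4 * v.c0 * v.c0 + 5 * (v.c1 * v.c1 + v.c2 * v.c2 + v.c3 * v.c3 + v.c4 * v.c4) + 15 * v.w * v.w +
    2 * v.c0 * (v.c1 + v.c2 + v.c3 + v.c4) +
    2 * (v.c1 * v.c2 + v.c1 * v.c3 + v.c1 * v.c4 + v.c2 * v.c3 + v.c2 * v.c4 + v.c3 * v.c4) -
    6 * v.c0 * v.w - 8 * (v.c1 + v.c2 + v.c3 + v.c4) * v.w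

/-- The adjugate of the Gram matrix, divided by `64`. -/
def adj : Vec :=
  ⟨56 * v.c0 - 3 * (v.c1 + v.c2 + v.c3 + v.c4) + 8 * v.w,
    -3 * v.c0 + 48 * v.c1 + v.c2 + v.c3 + v.c4 + 13 * v.w,
    -3 * v.c0 + v.c1 + 48 * v.c2 + v.c3 + v.c4 + 13 * v.w,
    -3 * v.c0 + v.c1 + v.c2 + 48 * v.c3 + v.c4 + 13 * v.w,
    -3 * v.c0 + v.c1 + v.c2 + v.c3 + 48 * v.c4 + 13 * v.w,
    8 * v.c0 + 13 * (v.c1 + v.c2 + v.c3 + v.c4) + 28 * v.w⟩

/-- The sum of the rows of the orbit. -/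
def add (a : Vec) : Vec := ⟨v.c0 + a.c0, v.c1 + a.c1, v.c2 + a.c2, v.c3 + a.c3, v.c4 + a.c4, v.w + a.w⟩

/-- The distinct images of a row. -/
def orbit : List Vec :=
  if v.rot = v then [v] else if v.rot.rot = v then [v, v.rot] else [v, v.rot, v.rot.rot, v.rot.rot.rot]

/-- The forms tried against a row. -/
def tests : List Vec :=
  [⟨1, 0, 0, 0, 0, 0⟩, ⟨0, 1, 0, 0, 0, 0⟩, ⟨0, 0, 0, 0, 0, 1⟩, v.adj,
    ((v.add v.rot).add (v.rot.rot.add v.rot.rot.rot)).adj]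

/-- The orbit is too large for the Gram form. -/
def excluded : Bool := v.tests.any fun a => decide (a.gq < (v.orbit.map fun u => u.dot a * u.dot a).sum)

end Vec

/-- The rows of one type. -/
def Ty.rows (t : Ty) (v : Vec) : List Vec := (List.range t.n).map fun k => Vec.rot^[k] v

/-- The orbit contains the opposite rows. -/
def Ty.selfOpp (t : Ty) : Bool := (t.rows t.rep).contains t.rep.neg

/-- All rows that can occur. -/
def allRows : List Vec := ⟨0, 0, 0, 0, 0, 0⟩ :: types.flatMap fun t =>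
  t.rows t.rep ++ if t.selfOpp then [] else t.rows t.rep.neg

theorem allRows_nodup : allRows.Nodup := by decide +kernel

/-- The box check at one value of `c0`. -/
def boxAt (a : ℤ) : Bool :=
  decide (∀ b : Fin 5, ∀ c : Fin 5, ∀ d : Fin 5, ∀ e : Fin 5, ∀ w : Fin 7,
    (Vec.excluded ⟨a, (b : ℕ) - 2, (c : ℕ) - 2, (d : ℕ) - 2, (e : ℕ) - 2, (w : ℕ) - 3⟩ ||
      allRows.contains ⟨a, (b : ℕ) - 2, (c : ℕ) - 2, (d : ℕ) - 2, (e : ℕ) - 2, (w : ℕ) - 3⟩) = true)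

theorem box_0 : boxAt (-2) = true := by decide +kernel

theorem box_1 : boxAt (-1) = true := by decide +kernel

theorem box_2 : boxAt 0 = true := by decide +kernel

theorem box_3 : boxAt 1 = true := by decide +kernel

theorem box_4 : boxAt 2 = true := by decide +kernel

theorem cover_box (a : Fin 5) : boxAt ((a : ℕ) - 2) = true := by
  fin_cases a
  exacts [box_0, box_1, box_2, box_3, box_4]

theorem cover {v : Vec} (h0 : -2 ≤ v.c0 ∧ v.c0 ≤ 2) (h1 : -2 ≤ v.c1 ∧ v.c1 ≤ 2) (h2 : -2 ≤ v.c2 ∧ v.c2 ≤ 2)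
    (h3 : -2 ≤ v.c3 ∧ v.c3 ≤ 2) (h4 : -2 ≤ v.c4 ∧ v.c4 ≤ 2) (hw : -3 ≤ v.w ∧ v.w ≤ 3) :
    v ∈ allRows ∨ ∃ a : Vec, a.gq < (v.orbit.map fun u => u.dot a * u.dot a).sum := by
  have h := of_decide_eq_true (cover_box ⟨(v.c0 + 2).toNat, by omega⟩) ⟨(v.c1 + 2).toNat, by omega⟩
    ⟨(v.c2 + 2).toNat, by omega⟩ ⟨(v.c3 + 2).toNat, by omega⟩ ⟨(v.c4 + 2).toNat, by omega⟩ ⟨(v.w + 3).toNat, by omega⟩
  simp only at h
  rw [show (((v.c0 + 2).toNat : ℕ) : ℤ) - 2 = v.c0 by omega, show (((v.c1 + 2).toNat : ℕ) : ℤ) - 2 = v.c1 by omega,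
    show (((v.c2 + 2).toNat : ℕ) : ℤ) - 2 = v.c2 by omega, show (((v.c3 + 2).toNat : ℕ) : ℤ) - 2 = v.c3 by omega,
    show (((v.c4 + 2).toNat : ℕ) : ℤ) - 2 = v.c4 by omega, show (((v.w + 3).toNat : ℕ) : ℤ) - 3 = v.w by omega,
    show (⟨v.c0, v.c1, v.c2, v.c3, v.c4, v.w⟩ : Vec) = v from rfl] at h
  simp only [Bool.or_eq_true, List.contains_iff_mem, Vec.excluded, List.any_eq_true, decide_eq_true_eq] at h
  exact h.symm.imp id fun ⟨a, _, ha⟩ => ⟨a, ha⟩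

/-- Every type is consistent: Gram contribution, positivity, size of the orbit. -/
theorem types_ok : ∀ t ∈ types, ∀ v ∈ [t.rep, t.rep.neg],
    t.m = ⟨((t.rows v).map fun u => u.c0 * u.c0).sum, ((t.rows v).map fun u => u.c0 * u.c1).sum,
      ((t.rows v).map fun u => u.c0 * u.w).sum, ((t.rows v).map fun u => u.c1 * u.c1).sum,
      ((t.rows v).map fun u => u.c1 * u.c2).sum, ((t.rows v).map fun u => u.c1 * u.c4).sum,
      ((t.rows v).map fun u => u.c1 * u.w).sum, ((t.rows v).map fun u => u.w * u.w).sum⟩ ∧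
    t.m.Cs ∧ 0 < t.m.aa + t.m.bb + t.m.ww ∧ 0 < (v.item t.n).L ∧ 0 < t.n := by decide +kernel

end Cfsg.Lib.Lyons.Orbit
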