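import Cfsg.Agent.Lyons.Arith.Orbit.Leaf

/-!
`U₃(4)` residual, orbit certificate: the search over orbit types and signs.

A type is a Galois orbit of rows in the integral coordinates `c b = d b + (p - d_z) / 4`, `w = -p`, with its
contribution to eight entries of the Gram matrix.
-/

set_option autoImplicit false

namespace Cfsg.Lib.Lyons.Orbit

/-- A row in integral coordinates. -/
structure Vec where
  c0 : ℤ
  c1 : ℤ
  c2 : ℤ
  c3 : ℤ
  c4 : ℤ
  w : ℤ
deriving DecidableEq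

namespace Vec

variable (v : Vec)

/-- The opposite row. -/
def neg : Vec := ⟨-v.c0, -v.c1, -v.c2, -v.c3, -v.c4, -v.w⟩

/-- The sum of the five coordinates. -/
def tot : ℤ := v.c0 + v.c1 + v.c2 + v.c3 + v.c4

/-- The value at an element of order four. -/
def p : ℤ := -v.w

/-- The value at the central involution. -/
def dz : ℤ := 5 * v.p - 4 * v.tot

/-- The first multiplicity. -/
def q : ℤ := v.c0 + v.p - v.tot

/-- Least value of `R`. -/
def rmin : ℤ :=
  max (max 0 (-v.p)) (max ((v.dz - v.p + 15) / 16)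
    (max (-v.c0) (max (-v.c1) (max (-v.c2) (max (-v.c3) (-v.c4))))))

/-- The orbit with `n` rows of this kind. -/
def item (n : ℕ) : Item := ⟨v.p, v.q, v.dz - v.q, n, 4 * v.p - 3 * v.dz + 64 * (v.rmin + 1)⟩

end Vec

/-- Eight entries of the Gram matrix: `00, 0w, 11, 12, 14, 1w, ww` and `01`. -/
structure Mom where
  aa : ℤ
  ab : ℤ
  aw : ℤ
  bb : ℤ
  bc : ℤ
  bd : ℤ
  bw : ℤ
  ww : ℤ
deriving DecidableEq

namespace Mom

/-- Subtract `m` copies. -/
def sub (g : Mom) (m : ℕ) (h : Mom) : Mom :=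
  ⟨g.aa - m * h.aa, g.ab - m * h.ab, g.aw - m * h.aw, g.bb - m * h.bb, g.bc - m * h.bc, g.bd - m * h.bd,
    g.bw - m * h.bw, g.ww - m * h.ww⟩

/-- The diagonal is non-negative and the three inequalities of Cauchy and Schwarz hold. -/
def Cs (g : Mom) : Prop :=
  0 ≤ g.aa ∧ 0 ≤ g.bb ∧ 0 ≤ g.ww ∧ g.ab * g.ab ≤ g.aa * g.bb ∧ g.aw * g.aw ≤ g.aa * g.ww ∧ g.bw * g.bw ≤ g.bb * g.ww

instance (g : Mom) : Decidable g.Cs := inferInstanceAs (Decidable (_ ∧ _))

theorem sq_add {a b A B C D : ℤ} (hA : 0 ≤ A) (hB : 0 ≤ B) (hC : 0 ≤ C) (hD : 0 ≤ D) (ha : a * a ≤ A * C)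
    (hb : b * b ≤ B * D) : (a + b) * (a + b) ≤ (A + B) * (C + D) := by
  have h2 : 2 * (a * b) ≤ A * D + B * C := by
    have : (a * b) * (a * b) ≤ (A * C) * (B * D) := by
      calc (a * b) * (a * b) = (a * a) * (b * b) := by ring
        _ ≤ (A * C) * (B * D) := mul_le_mul ha hb (mul_self_nonneg b) (mul_nonneg hA hC)
    nlinarith [sq_nonneg (A * D - B * C), mul_nonneg hA hD, mul_nonneg hB hC]
  nlinarith

theorem cs_add {g h : Mom} (hg : g.Cs) (hh : h.Cs) (m : ℕ) :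
    (⟨g.aa + m * h.aa, g.ab + m * h.ab, g.aw + m * h.aw, g.bb + m * h.bb, g.bc + m * h.bc, g.bd + m * h.bd,
      g.bw + m * h.bw, g.ww + m * h.ww⟩ : Mom).Cs := by
  obtain ⟨a1, a2, a3, a4, a5, a6⟩ := hg
  obtain ⟨b1, b2, b3, b4, b5, b6⟩ := hh
  have hm : (0 : ℤ) ≤ m := Int.natCast_nonneg m
  refine ⟨?_, ?_, ?_, ?_, ?_, ?_⟩ <;> simp only
  · positivity
  · positivity
  · positivity
  all_goals refine sq_add (by positivity) (by positivity) (by positivity) (by positivity) (by assumption) ?_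
  all_goals nlinarith [mul_self_nonneg (m : ℤ)]

end Mom

/-- An orbit type: a representative, the number of rows, the contribution to the Gram matrix. -/
structure Ty where
  rep : Vec
  n : ℕ
  m : Mom
deriving DecidableEq

/-- The orbit types, up to sign. -/
def types : List Ty :=
  [
    ⟨⟨-1, -1, 0, 0, -1, 2⟩, 2, ⟨2, 1, -4, 1, 0, 1, -2, 8⟩⟩,
    ⟨⟨-1, -1, 0, 0, -1, 1⟩, 2, ⟨2, 1, -2, 1, 0, 1, -1, 2⟩⟩,
    ⟨⟨-1, -1, -1, -1, -1, 3⟩, 1, ⟨1, 1, -3, 1, 1, 1, -3, 9⟩⟩,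
    ⟨⟨-1, -1, -1, -1, -1, 2⟩, 1, ⟨1, 1, -2, 1, 1, 1, -2, 4⟩⟩,
    ⟨⟨-1, -1, -1, -1, -1, 1⟩, 1, ⟨1, 1, -1, 1, 1, 1, -1, 1⟩⟩,
    ⟨⟨-1, 0, 0, 0, 0, 2⟩, 1, ⟨1, 0, -2, 0, 0, 0, 0, 4⟩⟩,
    ⟨⟨-1, 0, 0, 0, 0, -1⟩, 1, ⟨1, 0, 1, 0, 0, 0, 0, 1⟩⟩,
    ⟨⟨-1, 0, 0, 0, 0, 1⟩, 1, ⟨1, 0, -1, 0, 0, 0, 0, 1⟩⟩,
    ⟨⟨-1, 0, 0, 0, 0, 0⟩, 1, ⟨1, 0, 0, 0, 0, 0, 0, 0⟩⟩,
    ⟨⟨0, -2, 0, 0, 0, 1⟩, 4, ⟨0, 0, 0, 4, 0, 0, -2, 4⟩⟩,
    ⟨⟨0, -1, -1, -1, 1, 1⟩, 4, ⟨0, 0, 0, 4, 0, 0, -2, 4⟩⟩,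
    ⟨⟨0, -1, -1, 0, 0, 1⟩, 4, ⟨0, 0, 0, 2, 1, 0, -2, 4⟩⟩,
    ⟨⟨0, -1, 0, 0, 1, -1⟩, 4, ⟨0, 0, 0, 2, 0, -2, 0, 4⟩⟩,
    ⟨⟨0, -1, 0, 1, 0, -1⟩, 4, ⟨0, 0, 0, 2, -1, 0, 0, 4⟩⟩,
    ⟨⟨0, -1, 0, 1, 0, 1⟩, 4, ⟨0, 0, 0, 2, -1, 0, 0, 4⟩⟩,
    ⟨⟨0, -1, 0, 0, 1, 0⟩, 4, ⟨0, 0, 0, 2, 0, -2, 0, 0⟩⟩,
    ⟨⟨0, -1, 0, 1, 0, 0⟩, 4, ⟨0, 0, 0, 2, -1, 0, 0, 0⟩⟩,
    ⟨⟨0, -1, -1, -1, -1, 3⟩, 1, ⟨0, 0, 0, 1, 1, 1, -3, 9⟩⟩,
    ⟨⟨0, -1, 0, 0, -1, 2⟩, 2, ⟨0, 0, 0, 1, 0, 1, -2, 8⟩⟩,
    ⟨⟨0, -1, -1, -1, -1, 2⟩, 1, ⟨0, 0, 0, 1, 1, 1, -2, 4⟩⟩,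
    ⟨⟨0, -1, 0, 0, 0, 1⟩, 4, ⟨0, 0, 0, 1, 0, 0, -1, 4⟩⟩,
    ⟨⟨0, -1, 0, 0, -1, 1⟩, 2, ⟨0, 0, 0, 1, 0, 1, -1, 2⟩⟩,
    ⟨⟨0, -1, -1, -1, -1, 1⟩, 1, ⟨0, 0, 0, 1, 1, 1, -1, 1⟩⟩,
    ⟨⟨0, -1, 0, 0, -1, 0⟩, 2, ⟨0, 0, 0, 1, 0, 1, 0, 0⟩⟩,
    ⟨⟨0, -1, 0, 0, 0, 0⟩, 4, ⟨0, 0, 0, 1, 0, 0, 0, 0⟩⟩,
    ⟨⟨0, 0, 0, 0, 0, -2⟩, 1, ⟨0, 0, 0, 0, 0, 0, 0, 4⟩⟩,
    ⟨⟨0, 0, 0, 0, 0, -1⟩, 1, ⟨0, 0, 0, 0, 0, 0, 0, 1⟩⟩]

/-- A bound for the number of orbits of this type inside the residual `g`. -/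
def Ty.bound (t : Ty) (g : Mom) : ℕ :=
  if 0 < t.m.aa then (g.aa / t.m.aa).toNat
  else if 0 < t.m.bb then (g.bb / t.m.bb).toNat
  else if 0 < t.m.ww then (g.ww / t.m.ww).toNat else 0

/-- The residual cannot be filled by the types that are left. -/
def dead (ts : List Ty) (g : Mom) : Bool :=
  decide ¬ g.Cs || (decide (g.aa ≠ 0) && ts.all fun t => decide (t.m.aa = 0)) ||
    (decide (g.bb ≠ 0) && ts.all fun t => decide (t.m.bb = 0))

/-- All choices of signs. -/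
def signs : List (Ty × ℕ) → List Item → Bool
  | [], items => leaf items
  | (t, m) :: rest, items => (List.range (m + 1)).all fun a =>
      signs rest (List.replicate a (t.rep.item t.n) ++ List.replicate (m - a) (t.rep.neg.item t.n) ++ items)

/-- All choices of multiplicities. -/
def go : List Ty → Mom → List (Ty × ℕ) → Bool
  | [], g, acc => decide (g ≠ ⟨0, 0, 0, 0, 0, 0, 0, 0⟩) || signs acc []
  | t :: ts, g, acc => dead (t :: ts) g ||
      (List.range (t.bound g + 1)).all fun m =>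
        go ts (g.sub m t.m) (if m = 0 then acc else (t, m) :: acc)

/-- The complete choices of multiplicities. -/
def enum : List Ty → Mom → List (Ty × ℕ) → List (List (Ty × ℕ))
  | [], g, acc => if g = ⟨0, 0, 0, 0, 0, 0, 0, 0⟩ then [acc] else []
  | t :: ts, g, acc => if dead (t :: ts) g then [] else
      (List.range (t.bound g + 1)).flatMap fun m => enum ts (g.sub m t.m) (if m = 0 then acc else (t, m) :: acc)

theorem go_of_enum : ∀ (ts : List Ty) (g : Mom) (acc : List (Ty × ℕ)),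
    (∀ a ∈ enum ts g acc, signs a [] = true) → go ts g acc = true
  | [], g, acc, h => by
    by_cases hg : g = ⟨0, 0, 0, 0, 0, 0, 0, 0⟩
    · rw [go, Bool.or_eq_true]
      exact Or.inr (h acc (by rw [enum, if_pos hg]; exact List.mem_singleton.2 rfl))
    · simp [go, hg]
  | t :: ts, g, acc, h => by
    rw [go, Bool.or_eq_true, List.all_eq_true]
    by_cases hd : dead (t :: ts) g = true
    · exact Or.inl hd
    · refine Or.inr fun m hm => go_of_enum ts _ _ fun a ha => h a ?_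
      rw [enum, if_neg hd, List.mem_flatMap]
      exact ⟨m, hm, ha⟩

/-- The orbits of one type, split by sign. -/
structure Part where
  ty : Ty
  pos : List Row
  neg : List Row
  pos_it : ∀ r ∈ pos, r.it = ty.rep.item ty.n
  neg_it : ∀ r ∈ neg, r.it = ty.rep.neg.item ty.n

/-- The number of orbits. -/
def Part.card (P : Part) : ℕ := P.pos.length + P.neg.length

/-- All rows of a list of parts. -/
def collect : List Part → List Row → List Row
  | [], rows => rows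
  | P :: ps, rows => collect ps (P.pos ++ P.neg ++ rows)

theorem collect_sum {α : Type*} [AddCommMonoid α] (f : Row → α) : ∀ (ps : List Part) (rows : List Row),
    ((collect ps rows).map f).sum = (ps.map fun P => (P.pos.map f).sum + (P.neg.map f).sum).sum + (rows.map f).sum
  | [], rows => by simp [collect]
  | P :: ps, rows => by
    rw [collect, collect_sum f ps, List.map_cons, List.sum_cons, List.map_append, List.map_append, List.sum_append,
      List.sum_append]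
    abel

theorem mem_collect {r : Row} : ∀ (ps : List Part) (rows : List Row), r ∈ collect ps rows →
    r ∈ rows ∨ ∃ P ∈ ps, r ∈ P.pos ∨ r ∈ P.neg
  | [], rows, h => Or.inl h
  | P :: ps, rows, h => by
    rcases mem_collect ps _ h with h' | ⟨Q, hQ, h'⟩
    · simp only [List.mem_append] at h'
      rcases h' with (h' | h') | h'
      · exact Or.inr ⟨P, List.mem_cons_self .., Or.inl h'⟩
      · exact Or.inr ⟨P, List.mem_cons_self .., Or.inr h'⟩
      · exact Or.inl h'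
    · exact Or.inr ⟨Q, List.mem_cons_of_mem _ hQ, h'⟩

theorem signs_sound : ∀ (ps : List Part) (rows : List Row),
    signs (ps.map fun P => (P.ty, P.card)) (rows.map Row.it) = true → ¬ Sol (collect ps rows)
  | [], rows, h, hs => by
    rw [List.map_nil, signs, leaf_sound (rows := rows) hs] at h
    exact Bool.noConfusion h
  | P :: ps, rows, h, hs => by
    simp only [List.map_cons, signs, List.all_eq_true, List.mem_range] at h
    refine signs_sound ps (P.pos ++ P.neg ++ rows) ?_ hs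
    have h1 := h P.pos.length (by simp [Part.card])
    rwa [show P.card - P.pos.length = P.neg.length by simp [Part.card],
      ← List.eq_replicate_iff.2 ⟨List.length_map _, fun b hb => by
        obtain ⟨r, hr, rfl⟩ := List.mem_map.1 hb
        exact P.pos_it r hr⟩,
      ← List.eq_replicate_iff.2 ⟨List.length_map _, fun b hb => by
        obtain ⟨r, hr, rfl⟩ := List.mem_map.1 hb
        exact P.neg_it r hr⟩, ← List.map_append, ← List.map_append] at h1

/-- What the parts add up to. -/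
def total : List Part → Mom
  | [] => ⟨0, 0, 0, 0, 0, 0, 0, 0⟩
  | P :: ps => ⟨(total ps).aa + P.card * P.ty.m.aa, (total ps).ab + P.card * P.ty.m.ab,
      (total ps).aw + P.card * P.ty.m.aw, (total ps).bb + P.card * P.ty.m.bb, (total ps).bc + P.card * P.ty.m.bc,
      (total ps).bd + P.card * P.ty.m.bd, (total ps).bw + P.card * P.ty.m.bw, (total ps).ww + P.card * P.ty.m.ww⟩

theorem total_sub (P : Part) (ps : List Part) : (total (P :: ps)).sub P.card P.ty.m = total ps := by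
  simp [total, Mom.sub]

theorem total_cs : ∀ {ps : List Part}, (∀ P ∈ ps, P.ty.m.Cs) → (total ps).Cs
  | [], _ => by decide
  | P :: ps, h => Mom.cs_add (total_cs fun Q hQ => h Q (List.mem_cons_of_mem _ hQ)) (h P (List.mem_cons_self ..)) _

theorem total_aa : ∀ {ps : List Part}, (∀ P ∈ ps, P.ty.m.aa = 0) → (total ps).aa = 0
  | [], _ => rfl
  | P :: ps, h => by
    simp [total, total_aa fun Q hQ => h Q (List.mem_cons_of_mem _ hQ), h P (List.mem_cons_self ..)]

theorem total_bb : ∀ {ps : List Part}, (∀ P ∈ ps, P.ty.m.bb = 0) → (total ps).bb = 0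
  | [], _ => rfl
  | P :: ps, h => by
    simp [total, total_bb fun Q hQ => h Q (List.mem_cons_of_mem _ hQ), h P (List.mem_cons_self ..)]

theorem le_div_toNat {c : ℕ} {v r : ℤ} (hv : 0 < v) (hr : 0 ≤ r) : c ≤ ((r + c * v) / v).toNat := by
  rw [Int.add_mul_ediv_right _ _ hv.ne']
  have := Int.ediv_nonneg hr hv.le
  omega

theorem card_le_bound {P : Part} {ps : List Part} (hps : ∀ Q ∈ ps, Q.ty.m.Cs)
    (hP : 0 < P.ty.m.aa + P.ty.m.bb + P.ty.m.ww) (hcs : P.ty.m.Cs) : P.card ≤ P.ty.bound (total (P :: ps)) := by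
  obtain ⟨ha, hb, hw, -⟩ := total_cs hps
  obtain ⟨ha', hb', hw', -⟩ := hcs
  rw [Ty.bound]
  split_ifs with h1 h2 h3
  · exact le_div_toNat h1 ha
  · exact le_div_toNat h2 hb
  · exact le_div_toNat h3 hw
  · omega

theorem go_sound : ∀ (ps : List Part) (done : List Part),
    (∀ P ∈ ps, P.ty.m.Cs ∧ 0 < P.ty.m.aa + P.ty.m.bb + P.ty.m.ww) →
    go (ps.map Part.ty) (total ps) (done.map fun P => (P.ty, P.card)) = true →
    ∀ rows : List Row, (∀ {α : Type} [AddCommMonoid α] (f : Row → α), (rows.map f).sum =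
      ((ps ++ done).map fun P => (P.pos.map f).sum + (P.neg.map f).sum).sum) →
    (∀ r ∈ rows, 1 ≤ r.J ∧ 0 < r.it.n ∧ 0 < r.it.L) →
    (∀ r, (∃ P ∈ ps ++ done, r ∈ P.pos ∨ r ∈ P.neg) → r ∈ rows) → ¬ Sol rows
  | [], done, _, h, rows, hsum, hpos, hmem, hs => by
    simp only [List.map_nil, go, total, ne_eq, not_true_eq_false, decide_false, Bool.false_or] at h
    have key : ∀ {α : Type} [AddCommMonoid α] (f : Row → α), ((collect done []).map f).sum = (rows.map f).sum :=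
      fun f => by rw [collect_sum, hsum f]; simp
    refine signs_sound done [] h ⟨?_, ?_, ?_, ?_, ?_, ?_⟩
    · intro r hr
      rcases mem_collect done [] hr with h' | h'
      · simp at h'
      · exact (hpos r (hmem r (by simpa using h'))).1
    · intro r hr
      rcases mem_collect done [] hr with h' | h'
      · simp at h'
      · exact (hpos r (hmem r (by simpa using h'))).2.1
    · intro r hr
      rcases mem_collect done [] hr with h' | h'
      · simp at h'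
      · exact (hpos r (hmem r (by simpa using h'))).2.2
    · exact fun l => (key _).trans (hs.free l)
    · exact fun l => (key _).trans (hs.degree l)
    · exact fun c => (key _).trans (hs.count c)
  | P :: ps, done, hty, h, rows, hsum, hpos, hmem, hs => by
    simp only [List.map_cons, go, Bool.or_eq_true, List.all_eq_true, List.mem_range] at h
    have hps : ∀ Q ∈ ps, Q.ty.m.Cs := fun Q hQ => (hty Q (List.mem_cons_of_mem _ hQ)).1
    have hP := hty P (List.mem_cons_self ..)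
    rcases h with h | h
    · simp only [dead, Bool.or_eq_true, Bool.and_eq_true, decide_eq_true_eq, List.all_eq_true, List.mem_cons,
        List.mem_map] at h
      have hall : ∀ Q ∈ P :: ps, Q.ty.m.Cs := fun Q hQ => (hty Q hQ).1
      rcases h with (h | ⟨h, h'⟩) | ⟨h, h'⟩
      · exact h (total_cs hall)
      · refine h (total_aa fun Q hQ => h' _ ?_)
        rcases List.mem_cons.1 hQ with rfl | hQ
        exacts [Or.inl rfl, Or.inr ⟨Q, hQ, rfl⟩]
      · refine h (total_bb fun Q hQ => h' _ ?_)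
        rcases List.mem_cons.1 hQ with rfl | hQ
        exacts [Or.inl rfl, Or.inr ⟨Q, hQ, rfl⟩]
    · have h1 := h P.card (Nat.lt_succ_of_le (card_le_bound hps hP.2 hP.1))
      rw [total_sub] at h1
      by_cases hc : P.card = 0
      · rw [if_pos hc] at h1
        have he : P.pos = [] ∧ P.neg = [] :=
          ⟨List.eq_nil_of_length_eq_zero (by rw [Part.card] at hc; omega),
            List.eq_nil_of_length_eq_zero (by rw [Part.card] at hc; omega)⟩
        refine go_sound ps done (fun Q hQ => hty Q (List.mem_cons_of_mem _ hQ)) h1 rows (fun f => ?_) hpos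
          (fun r hr => hmem r ?_) hs
        · rw [hsum f]; simp [he.1, he.2]
        · obtain ⟨Q, hQ, hr⟩ := hr
          exact ⟨Q, List.mem_cons_of_mem _ hQ, hr⟩
      · rw [if_neg hc] at h1
        refine go_sound ps (P :: done) (fun Q hQ => hty Q (List.mem_cons_of_mem _ hQ)) h1 rows (fun f => ?_) hpos
          (fun r hr => hmem r ?_) hs
        · rw [hsum f]
          simp only [List.cons_append, List.map_cons, List.sum_cons, List.map_append, List.sum_append]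
          abel
        · obtain ⟨Q, hQ, hr⟩ := hr
          refine ⟨Q, ?_, hr⟩
          simp only [List.cons_append, List.mem_append, List.mem_cons] at hQ ⊢
          tauto

end Cfsg.Lib.Lyons.Orbit
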