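import Mathlib

/-!
`U₃(4)` residual, orbit certificate: refuting one sign pattern.

An `Item` is an orbit of rows under the Galois action: `p`, `q = d 0`, `s` the sum of the other four, `n` rows,
degrees `L + 64 K`.  `refute` branches on `K`.
-/

set_option autoImplicit false

namespace Cfsg.Lib.Lyons.Orbit

/-- An orbit of rows. -/
structure Item where
  p : ℤ
  q : ℤ
  s : ℤ
  n : ℤ
  L : ℤ
deriving DecidableEq

namespace Item

variable (a : Item)

/-- A linear form in `(p, q, s)`. -/
def dot (l : ℤ × ℤ × ℤ) : ℤ := l.1 * a.p + l.2.1 * a.q + l.2.2 * a.s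

/-- The part of the two pair counts. -/
def wA : ℤ := a.n * ((a.q + a.s) * (a.q + a.s) * a.p)

/-- The second part. -/
def wB : ℤ := a.n * ((a.q + a.s) * (a.q + a.s) * (a.s - 4 * a.q))

/-- A combination of the two. -/
def wt (c : ℤ × ℤ) : ℤ := c.1 * a.wA + c.2 * a.wB

/-- The degree. -/
def deg (K : ℕ) : ℤ := a.L + 64 * (K : ℤ)

end Item

/-- An orbit with its degree parameter and its number of free orbits on the core. -/
structure Row where
  it : Item
  K : ℕ
  J : ℕ

/-- The equations met by the orbits of a configuration. -/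
structure Sol (rows : List Row) : Prop where
  one_le_J : ∀ r ∈ rows, 1 ≤ r.J
  n_pos : ∀ r ∈ rows, 0 < r.it.n
  L_pos : ∀ r ∈ rows, 0 < r.it.L
  free : ∀ l, (rows.map fun r => r.it.dot l * (r.J : ℤ)).sum = 0
  degree : ∀ l : ℤ × ℤ × ℤ, (rows.map fun r => r.it.n * r.it.dot l * r.it.deg r.K).sum = -l.1 - l.2.1
  count : ∀ c : ℤ × ℤ, (rows.map fun r => (r.it.wt c : ℚ) / (r.it.deg r.K : ℚ)).sum = ((-c.1 + 4 * c.2 : ℤ) : ℚ)

/-- The forms used on the degree and on the free orbits. -/
def lams : List (ℤ × ℤ × ℤ) :=
  [(4, -4, 0), (-4, 4, 0), (-1, -3, 1), (1, 3, -1), (-4, -4, 0), (4, 4, 0), (3, -3, 1), (4, 0, 0), (-3, 3, -1),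
    (-4, 0, 0), (0, 4, 0), (0, -4, 0), (-2, 2, -2), (2, -2, 2), (1, -1, -1), (-1, -7, 1), (1, 7, -1), (-1, 1, 1),
    (2, -6, 2), (-2, 6, -2)]

/-- The combinations used on the counts. -/
def combs : List (ℤ × ℤ) :=
  [(0, -1), (-1, 0), (-1, 1), (-2, 1), (-3, 1), (-4, 1), (-1, -1), (-2, -1), (1, 0), (0, 1)]

/-- Some form is non-negative on all orbits and positive on one. -/
def jKill (items : List Item) : Bool :=
  lams.any fun l => items.all (fun a => decide (0 ≤ a.dot l)) && items.any (fun a => decide (0 < a.dot l))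

theorem jKill_sound {rows : List Row} (h : Sol rows) : jKill (rows.map Row.it) = false := by
  rw [Bool.eq_false_iff]
  intro hk
  simp only [jKill, List.any_eq_true, Bool.and_eq_true, List.all_eq_true, List.mem_map, decide_eq_true_eq] at hk
  obtain ⟨l, -, hall, _, ⟨r, hr, rfl⟩, hpos⟩ := hk
  have h1 : 0 < r.it.dot l * (r.J : ℤ) := mul_pos hpos (by exact_mod_cast h.one_le_J r hr)
  have h2 := List.single_le_sum (l := rows.map fun r => r.it.dot l * (r.J : ℤ))
    (fun x hx => by
      obtain ⟨r', hr', rfl⟩ := List.mem_map.1 hx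
      exact mul_nonneg (hall _ ⟨r', hr', rfl⟩) (by positivity))
    _ (List.mem_map.2 ⟨r, hr, rfl⟩)
  rw [h.free l] at h2
  omega

/-- An orbit in the search: `K = k` if `ex`, else `K ≥ k`. -/
structure Node where
  it : Item
  k : ℕ
  ex : Bool

/-- The node describes the row. -/
def Node.Fits (N : Node) (r : Row) : Prop := N.it = r.it ∧ N.k ≤ r.K ∧ (N.ex = true → r.K = N.k)

/-- A form refutes the degree equation. -/
def degKill (st : List Node) : Bool :=
  lams.any fun l => st.all (fun N => N.ex || decide (0 ≤ N.it.dot l)) &&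
    decide (-l.1 - l.2.1 < (st.map fun N => N.it.n * N.it.dot l * N.it.deg N.k).sum)

/-- An upper bound for a combination of the counts, as a fraction. -/
def hi (c : ℤ × ℤ) : List Node → ℤ × ℤ
  | [] => (0, 1)
  | N :: st =>
    if N.ex || decide (0 < N.it.wt c) then
      ((hi c st).1 * N.it.deg N.k + N.it.wt c * (hi c st).2, (hi c st).2 * N.it.deg N.k)
    else hi c st

/-- A combination refutes the counts. -/
def countKill (st : List Node) : Bool :=
  combs.any fun c => decide ((hi c st).1 < (-c.1 + 4 * c.2) * (hi c st).2)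

theorem deg_le {N : Node} {r : Row} (h : N.Fits r) : N.it.deg N.k ≤ r.it.deg r.K := by
  rw [← h.1]
  have := h.2.1
  simp only [Item.deg]
  omega

theorem deg_pos {a : Item} (h : 0 < a.L) (K : ℕ) : 0 < a.deg K := by
  simp only [Item.deg]
  omega

theorem degree_bound {st : List Node} {rows : List Row} (hf : List.Forall₂ Node.Fits st rows)
    (hn : ∀ r ∈ rows, 0 < r.it.n) (l : ℤ × ℤ × ℤ) (hfree : ∀ N ∈ st, N.ex = true ∨ 0 ≤ N.it.dot l) :
    (st.map fun N => N.it.n * N.it.dot l * N.it.deg N.k).sum ≤
      (rows.map fun r => r.it.n * r.it.dot l * r.it.deg r.K).sum := by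
  induction hf with
  | nil => simp
  | @cons N r st rows h hs ih =>
    simp only [List.map_cons, List.sum_cons]
    refine add_le_add ?_ (ih (fun r hr => hn r (List.mem_cons_of_mem _ hr))
      fun N hN => hfree N (List.mem_cons_of_mem _ hN))
    rcases hfree N (List.mem_cons_self ..) with he | hd
    · rw [h.1, h.2.2 he]
    · have h2 := deg_le h
      rw [h.1] at hd h2 ⊢
      exact mul_le_mul_of_nonneg_left h2 (mul_nonneg (hn r (List.mem_cons_self ..)).le hd)

theorem hi_spec {st : List Node} {rows : List Row} (hf : List.Forall₂ Node.Fits st rows)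
    (hL : ∀ r ∈ rows, 0 < r.it.L) (c : ℤ × ℤ) :
    0 < (hi c st).2 ∧
      (rows.map fun r => (r.it.wt c : ℚ) / (r.it.deg r.K : ℚ)).sum ≤ ((hi c st).1 : ℚ) / ((hi c st).2 : ℚ) := by
  induction hf with
  | nil => simp [hi]
  | @cons N r st rows h hs ih =>
    obtain ⟨hd, hle⟩ := ih fun r hr => hL r (List.mem_cons_of_mem _ hr)
    have hLr := hL r (List.mem_cons_self ..)
    have hx : 0 < r.it.deg r.K := deg_pos hLr _
    have hXk : 0 < N.it.deg N.k := deg_pos (by rw [h.1]; exact hLr) _
    have hle' := deg_le h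
    simp only [List.map_cons, List.sum_cons, hi]
    split_ifs with hc
    · refine ⟨mul_pos hd hXk, ?_⟩
      have ht : (r.it.wt c : ℚ) / (r.it.deg r.K : ℚ) ≤ (N.it.wt c : ℚ) / (N.it.deg N.k : ℚ) := by
        rcases Bool.or_eq_true .. ▸ hc with he | hp
        · rw [h.1, h.2.2 he]
        · rw [h.1] at hp hXk hle' ⊢
          exact div_le_div_of_nonneg_left (by exact_mod_cast (of_decide_eq_true hp).le) (by exact_mod_cast hXk)
            (by exact_mod_cast hle')
      refine (add_le_add ht hle).trans (le_of_eq ?_)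
      have : ((hi c st).2 : ℚ) ≠ 0 := by exact_mod_cast hd.ne'
      have : (N.it.deg N.k : ℚ) ≠ 0 := by exact_mod_cast hXk.ne'
      push_cast
      field_simp
      ring
    · refine ⟨hd, ?_⟩
      have hw : N.it.wt c ≤ 0 := by
        simp only [Bool.or_eq_true, decide_eq_true_eq, not_or, not_lt] at hc
        exact hc.2
      rw [h.1] at hw
      have : (r.it.wt c : ℚ) / (r.it.deg r.K : ℚ) ≤ 0 :=
        div_nonpos_of_nonpos_of_nonneg (by exact_mod_cast hw) (by exact_mod_cast hx.le)
      linarith

/-- The orbit to branch on. -/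
def pick (st : List Node) : ℕ :=
  ((st.foldl (fun (acc : ℕ × ℕ × ℤ × ℤ) N =>
    if !N.ex && decide (acc.2.2.1 * N.it.deg N.k ≤ max |N.it.wA| |N.it.wB| * acc.2.2.2) &&
        decide (0 < max |N.it.wA| |N.it.wB|)
    then (acc.1 + 1, acc.1, max |N.it.wA| |N.it.wB|, N.it.deg N.k)
    else (acc.1 + 1, acc.2)) (0, st.length, 0, 1))).2.1

/-- Branch until every case is refuted. -/
def refute : ℕ → List Node → Bool
  | 0, _ => false
  | f + 1, st => degKill st || (countKill st ||
      match st[pick st]? with
      | none => false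
      | some N => refute f (st.set (pick st) ⟨N.it, N.k, true⟩) && refute f (st.set (pick st) ⟨N.it, N.k + 1, false⟩))

theorem fits_split {st : List Node} {rows : List Row} (hf : List.Forall₂ Node.Fits st rows) :
    ∀ (j : ℕ) (N : Node), st[j]? = some N →
      List.Forall₂ Node.Fits (st.set j ⟨N.it, N.k, true⟩) rows ∨
        List.Forall₂ Node.Fits (st.set j ⟨N.it, N.k + 1, false⟩) rows := by
  induction hf with
  | nil => intro j N h; simp at h
  | @cons M r st rows h hs ih =>
    intro j N hj
    cases j with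
    | zero =>
      obtain rfl : M = N := by simpa using hj
      rcases Nat.eq_or_lt_of_le h.2.1 with he | hlt
      · exact Or.inl (List.Forall₂.cons ⟨h.1, h.2.1, fun _ => he.symm⟩ hs)
      · exact Or.inr (List.Forall₂.cons ⟨h.1, hlt, fun hh => Bool.noConfusion hh⟩ hs)
    | succ j =>
      rcases ih j N (by simpa using hj) with h' | h'
      · exact Or.inl (List.Forall₂.cons h h')
      · exact Or.inr (List.Forall₂.cons h h')

theorem refute_sound : ∀ (f : ℕ) (st : List Node) (rows : List Row),
    List.Forall₂ Node.Fits st rows → Sol rows → refute f st = false := by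
  intro f
  induction f with
  | zero => intros; rfl
  | succ f ih =>
    intro st rows hf hs
    rw [Bool.eq_false_iff]
    intro hk
    simp only [refute, Bool.or_eq_true] at hk
    rcases hk with hk | hk | hk
    · simp only [degKill, List.any_eq_true, Bool.and_eq_true, List.all_eq_true, Bool.or_eq_true,
        decide_eq_true_eq] at hk
      obtain ⟨l, -, hall, hlt⟩ := hk
      have := degree_bound hf hs.n_pos l hall
      rw [hs.degree l] at this
      omega
    · simp only [countKill, List.any_eq_true, decide_eq_true_eq] at hk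
      obtain ⟨c, -, hlt⟩ := hk
      obtain ⟨hd, hle⟩ := hi_spec hf hs.L_pos c
      rw [hs.count c] at hle
      have hd' : (0 : ℚ) < ((hi c st).2 : ℚ) := by exact_mod_cast hd
      rw [le_div_iff₀ hd'] at hle
      have : (-c.1 + 4 * c.2) * (hi c st).2 ≤ (hi c st).1 := by exact_mod_cast hle
      omega
    · split at hk
      · exact Bool.noConfusion hk
      · rename_i N hN
        rw [Bool.and_eq_true] at hk
        rcases fits_split hf _ N hN with h | h
        · rw [ih _ _ h hs] at hk; exact Bool.noConfusion hk.1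
        · rw [ih _ _ h hs] at hk; exact Bool.noConfusion hk.2

/-- One sign pattern. -/
def leaf (items : List Item) : Bool := jKill items || refute 40 (items.map fun a => ⟨a, 0, false⟩)

theorem leaf_sound {rows : List Row} (hs : Sol rows) : leaf (rows.map Row.it) = false := by
  rw [leaf, jKill_sound hs, Bool.false_or]
  refine refute_sound _ _ _ ?_ hs
  rw [List.map_map]
  clear hs
  induction rows with
  | nil => exact List.Forall₂.nil
  | cons r rows ih => exact List.Forall₂.cons ⟨rfl, Nat.zero_le _, fun h => Bool.noConfusion h⟩ ih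

end Cfsg.Lib.Lyons.Orbit
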